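import Cfsg.Agent.Lib.SpDeg48.Fixed
import Cfsg.Agent.Lib.Symplectic.Std
import Cfsg.Agent.Lib.MinDegree.Basic

/-!
Non-trivial complex representations of `Sp_{2n}(q)`, `q` even, have degree at least
`(q ^ n - 1) (q ^ n - q) / (2 (q + 1))`.
-/

set_option autoImplicit false
set_option linter.unusedSectionVars false

namespace Cfsg.Agent.Lib.SpDeg48

open Module Cfsg.Agent.Lib.Symplectic Cfsg.Agent.Lib.UniDeg48 Cfsg.Agent.Lib.MinDegree

universe u v

variable {F : Type*} [Field F] [Fintype F] [CharP F 2]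

/-- The bound. -/
def bnd (q n : ℕ) : ℕ := (q ^ n - 1) * (q ^ n - q) / (2 * (q + 1))

theorem bnd_succ {q : ℕ} (hq : 2 ≤ q) {m : ℕ} (hm : 1 ≤ m) :
    bnd q (m + 1) = bnd q m + (q - 1) * ((q ^ (2 * m) - q ^ m) / 2) := by
  have hqm : q ≤ q ^ m := Nat.le_self_pow (by omega) q
  have hqm' : q ^ m ≤ q ^ (m + 1) := Nat.pow_le_pow_right (by omega) (by omega)
  have h2m : q ^ m ≤ q ^ (2 * m) := Nat.pow_le_pow_right (by omega) (by omega)
  obtain ⟨T, hT⟩ : ∃ T, q ^ (2 * m) - q ^ m = 2 * T := by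
    refine even_iff_two_dvd.1 ?_
    rw [Nat.even_sub h2m, Nat.even_pow, Nat.even_pow]
    simp [show m ≠ 0 by omega]
  rw [hT, Nat.mul_div_cancel_left _ (by norm_num : 0 < 2), bnd, bnd,
    ← Nat.add_mul_div_left _ _ (by omega : 0 < 2 * (q + 1))]
  congr 1
  have key : ((q : ℤ) ^ (m + 1) - 1) * ((q : ℤ) ^ (m + 1) - q) =
      ((q : ℤ) ^ m - 1) * ((q : ℤ) ^ m - q) + 2 * ((q : ℤ) + 1) * (((q : ℤ) - 1) * T) := by
    have hT' : (q : ℤ) ^ (2 * m) - (q : ℤ) ^ m = 2 * T := by
      rw [← Nat.cast_pow, ← Nat.cast_pow, ← Nat.cast_sub h2m, hT]; push_cast; rfl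
    linear_combination ((q : ℤ) ^ 2 - 1) * hT'
  zify [show 1 ≤ q ^ m by omega, show 1 ≤ q ^ (m + 1) by omega, hqm, show q ≤ q ^ (m + 1) by omega,
    show 1 ≤ q by omega]
  exact key

theorem bnd_one (q : ℕ) : bnd q 1 = 0 := by simp [bnd]

variable {V : Type u} [AddCommGroup V] [Module F V] [FiniteDimensional F V]
variable {B : V →ₗ[F] V →ₗ[F] F} (hB : IsSympForm B)

theorem step_bound {M : Type*} [AddCommGroup M] [Module ℂ M] [FiniteDimensional ℂ M]
    (σ : Representation ℂ (Isom B) M) {e f : V} (hef : B e f = 1) {c₀ : F}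
    (hc₀ : σ (transv hB e c₀) ≠ 1) {m : ℕ} (hm : finrank F (pairPerp B e f) = 2 * m) :
    finrank ℂ (fixT hB σ e) +
      (Fintype.card F - 1) * ((Fintype.card F ^ (2 * m) - Fintype.card F ^ m) / 2) ≤
        finrank ℂ M := by
  classical
  have he0 : e ≠ 0 := fun h => by simp [h] at hef
  obtain ⟨χ, hχ, hocc⟩ := exists_occurs σ (tvHom hB e) (a₀ := c₀) hc₀
  have hχ1 : χ ≠ 1 := fun h => hχ (by rw [h, AddChar.one_apply])
  have hprim := AddChar.IsPrimitive.of_ne_one hχ1
  let f' : Fˣ → AddChar F ℂ := fun μ => χ.mulShift (μ : F)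
  have hinj : Function.Injective f' := fun a b h =>
    Units.ext (AddChar.to_mulShift_inj_of_isPrimitive hprim h)
  have hne : ∀ μ : Fˣ, f' μ ≠ 1 := fun μ => hprim μ.ne_zero
  have hocc' : ∀ μ : Fˣ, eigSub σ (tvHom hB e) (f' μ) ≠ ⊥ := by
    intro μ
    rw [← occurs_iff_eigSub]
    obtain ⟨l, hl⟩ : ∃ l : F, l ^ 2 = ((μ⁻¹ : Fˣ) : F) :=
      Finite.surjective_of_injective (fun x y h => CharTwo.sq_injective h : Function.Injective
        (fun x : F => x ^ 2)) _
    have hl0 : l ≠ 0 := fun h => (μ⁻¹).ne_zero (by rw [← hl, h, zero_pow two_ne_zero])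
    obtain ⟨g, hg⟩ := exists_smul_eq_of_ne_zero hB he0 (smul_ne_zero hl0 he0)
    obtain ⟨w, hw0, hw⟩ := hocc
    refine ⟨σ g w, fun h => hw0 ?_, fun a => ?_⟩
    · have := congrArg (σ g⁻¹) h
      rwa [← Module.End.mul_apply, ← map_mul, inv_mul_cancel, map_one, Module.End.one_apply,
        map_zero] at this
    · show σ (transv hB e a) (σ g w) = χ ((μ : F) * a) • σ g w
      have h1 := transv_conj hB g e ((μ : F) * a)
      rw [hg, transv_vec_smul, hl, ← mul_assoc, Units.inv_mul, one_mul, mul_inv_eq_iff_eq_mul] at h1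
      rw [← Module.End.mul_apply, ← map_mul, ← h1, map_mul, Module.End.mul_apply]
      exact (congrArg (σ g) (hw ((μ : F) * a))).trans (map_smul _ _ _)
  have h := add_card_mul_le σ (tvHom hB e) (Finset.univ.image f') (by
    simp only [Finset.mem_image, Finset.mem_univ, true_and, not_exists]
    exact hne) (d := (Fintype.card F ^ (2 * m) - Fintype.card F ^ m) / 2) (by
    simp only [Finset.mem_image, Finset.mem_univ, true_and, forall_exists_index]
    rintro _ μ rfl
    have := eig_bound hB σ hef (hne μ) (hocc' μ) hm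
    omega)
  rwa [Finset.card_image_of_injective _ hinj, Finset.card_univ, Fintype.card_units] at h

theorem deg_bound :
    ∀ (n : ℕ), 1 ≤ n → ∀ (V : Type u) [AddCommGroup V] [Module F V] [FiniteDimensional F V]
      (B : V →ₗ[F] V →ₗ[F] F) (hB : IsSympForm B), finrank F V = 2 * n →
      ∀ (M : Type v) [AddCommGroup M] [Module ℂ M] [FiniteDimensional ℂ M]
        (σ : Representation ℂ (Isom B) M),
        (∃ (a : V) (c : F), σ (transv hB a c) ≠ 1) →
        bnd (Fintype.card F) n ≤ finrank ℂ M := by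
  classical
  intro n
  induction n using Nat.strong_induction_on with
  | _ n ih => ?_
  intro hn V _ _ _ B hB hdim M _ _ _ σ hnt
  obtain ⟨e, c, hc⟩ := hnt
  have he0 : e ≠ 0 := fun h => hc (by rw [h, transv_vec_zero, map_one])
  by_cases hn1 : n = 1
  · rw [hn1, bnd_one]; exact Nat.zero_le _
  obtain ⟨m, rfl⟩ : ∃ m, n = m + 1 := ⟨n - 1, by omega⟩
  rw [bnd_succ Fintype.one_lt_card (by omega)]
  by_cases hm1 : m = 1
  · obtain ⟨f, hef⟩ := hB.exists_eq_one he0
    have := finrank_pairPerp hB hef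
    have := step_bound hB σ hef hc (m := m) (by omega)
    subst hm1
    rw [bnd_one]
    omega
  obtain ⟨u, d, hu, heu, x, hx, hne⟩ := exists_orth_nontrivial hB (by omega) σ he0 hc
  -- a partner of `e` orthogonal to `u`
  obtain ⟨y, hy⟩ := hB.exists_eq_one he0
  obtain ⟨z, hz, hz'⟩ : ∃ z, B e z = 0 ∧ B u z = 1 := by
    obtain ⟨x, hx1, hx2⟩ := hB.exists_perp_ne_zero he0 hu
    exact ⟨(B u x)⁻¹ • x, by simp [hx1], by rw [map_smul, smul_eq_mul, inv_mul_cancel₀ hx2]⟩
  set f := y - B u y • z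
  have hef : B e f = 1 := by simp [f, hy, hz]
  have huf : B u f = 0 := by simp [f, hz']
  have hdimW := finrank_pairPerp hB hef
  have hstep := step_bound hB σ hef hc (m := m) (by omega)
  set C := fixT hB σ e
  suffices hrec : bnd (Fintype.card F) m ≤ finrank ℂ C by omega
  have hmap : ∀ (g : Isom (restr B (pairPerp B e f))), ∀ w ∈ C, σ (extHom hB hef g) w ∈ C :=
    fun g w hw => map_fixT hB σ (extHom_smul_left hB hef g) hw
  let σ' : Representation ℂ (Isom (restr B (pairPerp B e f))) C :=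
    { toFun := fun g => (σ (extHom hB hef g)).restrict (hmap g)
      map_one' := by
        apply LinearMap.ext; intro w; apply Subtype.ext
        show σ (extHom hB hef 1) w.1 = w.1
        rw [map_one, map_one, Module.End.one_apply]
      map_mul' := fun g k => by
        apply LinearMap.ext; intro w; apply Subtype.ext
        show σ (extHom hB hef (g * k)) w.1 = σ (extHom hB hef g) (σ (extHom hB hef k) w.1)
        rw [map_mul, map_mul, Module.End.mul_apply] }
  refine ih m (by omega) (by omega) (pairPerp B e f) (restr B (pairPerp B e f))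
    (restr_pairPerp hB hef) (by omega) C σ'
    ⟨⟨u, mem_pairPerp.2 ⟨heu, hB.comm_eq_zero.1 huf⟩⟩, d, fun h => hne ?_⟩
  have h2 := congrArg Subtype.val (LinearMap.congr_fun h ⟨x, hx⟩)
  change σ (extHom hB hef _) x = x at h2
  rwa [extHom_transv] at h2

/-- The bound for irreducible representations of the matrix group. -/
theorem irreducible_bound {n : ℕ} (hn : 1 ≤ n) {k : ℕ}
    (ρ : Representation ℂ (Matrix.symplecticGroup (Fin n) F) (Fin k → ℂ))
    (hρ : ρ.IsIrreducible) (hk : 2 ≤ k) : bnd (Fintype.card F) n ≤ k := by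
  let σ : Representation ℂ (Isom (stdForm n F)) (Fin k → ℂ) :=
    ρ.comp (spEquiv n F).symm.toMonoidHom
  have hB := isSympForm_stdForm n F
  have hfin : finrank ℂ (Fin k → ℂ) = k := Module.finrank_fin_fun ℂ
  rw [← hfin]
  refine deg_bound n hn _ _ hB (finrank_std n F) _ σ ?_
  by_contra hcon
  push Not at hcon
  have hle : TG hB ≤ MonoidHom.ker (σ : Isom (stdForm n F) →* Module.End ℂ (Fin k → ℂ)) := by
    refine (Subgroup.closure_le _).2 ?_
    rintro _ ⟨⟨a, c⟩, rfl⟩
    exact hcon a c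
  have hall : ∀ g, ρ g = 1 := by
    intro g
    have hg : σ (spEquiv n F g) = 1 := hle (by rw [TG_eq_top hB]; trivial)
    change ρ ((spEquiv n F).symm (spEquiv n F g)) = 1 at hg
    rwa [MulEquiv.symm_apply_apply] at hg
  have := finrank_le_one_of_trivial hρ hall
  omega

end Cfsg.Agent.Lib.SpDeg48
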