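import Cfsg.Agent.Lib.Symplectic.Simple
import Cfsg.Agent.Lib.UniDeg48.Eigen

/-!
Transvection groups and Eichler elements of a symplectic group in characteristic two.
-/

set_option autoImplicit false

namespace Cfsg.Agent.Lib.SpDeg48

open Module Cfsg.Agent.Lib.Symplectic Cfsg.Agent.Lib.UniDeg48

variable {F : Type*} [Field F] {V : Type*} [AddCommGroup V] [Module F V]
variable {B : V →ₗ[F] V →ₗ[F] F} (hB : IsSympForm B)

/-- The transvection group of a vector. -/
def tvHom (a : V) : Multiplicative F →* Isom B where
  toFun c := transv hB a (Multiplicative.toAdd c)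
  map_one' := transv_zero hB a
  map_mul' c d := (transv_mul hB a _ _).symm

theorem tvHom_apply (a : V) (c : F) : tvHom hB a (Multiplicative.ofAdd c) = transv hB a c := rfl

/-- The Eichler element `x ↦ x + B x e • z + B x z • e` for `z` orthogonal to `e`. -/
def eich (e z : V) : Isom B := transv hB (e + z) 1 * transv hB e (-1) * transv hB z (-1)

theorem eich_smul {e z : V} (h : B e z = 0) (x : V) :
    eich hB e z • x = x + B x e • z + B x z • e := by
  have h' : B z e = 0 := hB.comm_eq_zero.1 h
  simp only [eich, mul_smul, transv_smul, map_add, map_smul, LinearMap.add_apply,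
    LinearMap.smul_apply, smul_eq_mul, hB.self, h, h', mul_zero, add_zero, neg_mul, one_mul]
  module

theorem eich_fix {e z : V} (h : B e z = 0) {x : V} (hxe : B x e = 0) (hxz : B x z = 0) :
    eich hB e z • x = x := by
  rw [eich_smul hB h, hxe, hxz, zero_smul, zero_smul, add_zero, add_zero]

theorem eich_mul {e z z' : V} (h : B e z = 0) (h' : B e z' = 0) :
    eich hB e z * eich hB e z' = eich hB e (z + z') * transv hB e (B z' z) := by
  apply isom_ext
  intro x
  have h2 : B z' e = 0 := hB.comm_eq_zero.1 h'
  have h3 : B z e = 0 := hB.comm_eq_zero.1 h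
  simp only [mul_smul, eich_smul hB h, eich_smul hB h', transv_smul,
    eich_smul hB (show B e (z + z') = 0 by rw [map_add, h, h', add_zero]), map_add, map_smul,
    LinearMap.add_apply, LinearMap.smul_apply, smul_eq_mul, hB.self, h, h', h2, h3, mul_zero,
    add_zero]
  module

theorem eich_zero (e : V) : eich hB e 0 = 1 := by
  apply isom_ext
  intro x
  rw [eich_smul hB (map_zero _), one_smul]
  simp

theorem eich_conj (g : Isom B) (e z : V) :
    g * eich hB e z * g⁻¹ = eich hB (g • e) (g • z) := by
  simp only [eich, ← smul_add, ← transv_conj]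
  group

theorem eich_comm_transv {e z : V} (h : B e z = 0) (c : F) :
    Commute (eich hB e z) (transv hB e c) := by
  have h1 := transv_conj hB (eich hB e z) e c
  rw [eich_fix hB h (hB.self e) h, mul_inv_eq_iff_eq_mul] at h1
  exact h1

theorem transv_add {a b : V} (hab : B a b = 0) (c : F) :
    transv hB (a + b) c = transv hB a c * transv hB b c * eich hB a (c • b) := by
  apply isom_ext
  intro x
  have hba : B b a = 0 := hB.comm_eq_zero.1 hab
  simp only [mul_smul, eich_smul hB (show B a (c • b) = 0 by simp [hab]), transv_smul, map_add,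
    map_smul, LinearMap.add_apply, LinearMap.smul_apply, smul_eq_mul, hB.self, hab, hba, mul_zero,
    add_zero]
  module

section Rep

variable {M : Type*} [AddCommGroup M] [Module ℂ M] (σ : Representation ℂ (Isom B) M)

/-- The fixed space of a transvection group. -/
noncomputable abbrev fixT (a : V) : Submodule ℂ M := eigSub σ (tvHom hB a) 1

theorem mem_fixT {a : V} {x : M} : x ∈ fixT hB σ a ↔ ∀ c, σ (transv hB a c) x = x := by
  simp [mem_eigSub, tvHom_apply]

theorem map_fixT {g : Isom B} {a b : V} (h : g • a = b) {x : M} (hx : x ∈ fixT hB σ a) :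
    σ g x ∈ fixT hB σ b := by
  rw [mem_fixT] at hx ⊢
  intro c
  rw [← h, ← transv_conj, ← Module.End.mul_apply, ← map_mul, inv_mul_cancel_right, map_mul,
    Module.End.mul_apply, hx]

theorem fixT_smul {l : F} (hl : l ≠ 0) (a : V) : fixT hB σ (l • a) = fixT hB σ a := by
  ext x
  rw [mem_fixT, mem_fixT]
  constructor
  · intro h c
    have := h ((l ^ 2)⁻¹ * c)
    rwa [transv_vec_smul, ← mul_assoc, mul_inv_cancel₀ (pow_ne_zero 2 hl), one_mul] at this
  · intro h c
    rw [transv_vec_smul]
    exact h _

end Rep

end Cfsg.Agent.Lib.SpDeg48
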