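import Cfsg.Agent.Lib.SpDeg48.Orbit
import Cfsg.Agent.Lib.PermTrans.Constituents
import Mathlib.Algebra.Group.Subgroup.Finite

/-!
In dimension at least six some transvection group has fixed vectors in every representation, and
an orthogonal transvection moves the fixed space of a given transvection group.
-/

set_option autoImplicit false
set_option linter.unusedSectionVars false

namespace Cfsg.Agent.Lib.SpDeg48

open Module Cfsg.Agent.Lib.Symplectic Cfsg.Agent.Lib.UniDeg48

variable {F : Type*} [Field F] [Fintype F] [CharP F 2]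
variable {V : Type*} [AddCommGroup V] [Module F V] [FiniteDimensional F V]
variable {B : V →ₗ[F] V →ₗ[F] F} (hB : IsSympForm B)
variable {M : Type*} [AddCommGroup M] [Module ℂ M] [FiniteDimensional ℂ M]

theorem finite_isom : Finite (Isom B) := by
  have : Finite V := Module.finite_of_finite F
  exact Finite.of_injective (fun g : Isom B => fun x : V => g • x)
    (fun g h hgh => isom_ext (congrFun hgh))

theorem exists_fixed_vector [Nontrivial M] (h6 : 6 ≤ finrank F V)
    (σ : Representation ℂ (Isom B) M) : ∃ v : V, v ≠ 0 ∧ fixT hB σ v ≠ ⊥ := by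
  classical
  obtain ⟨a, b, d, ha, hab, had, hbd, hb, hd⟩ := exists_three_orth hB h6
  have : Finite V := Module.finite_of_finite F
  set P : Submodule F V := Submodule.span F {a, b, d}
  have horth : ∀ x ∈ P, ∀ y ∈ P, B x y = 0 := by
    intro x hx y hy
    rw [Submodule.mem_span_triple] at hx hy
    obtain ⟨p, r, s, rfl⟩ := hx
    obtain ⟨p', r', s', rfl⟩ := hy
    simp [hB.self, hab, had, hbd, hB.comm_eq_zero.1 hab, hB.comm_eq_zero.1 had,
      hB.comm_eq_zero.1 hbd]
  let T : P × F → Module.End ℂ M := fun p => σ (transv hB p.1.1 p.2)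
  have hc : ∀ p p', Commute (T p) (T p') := by
    intro p p'
    have h1 := transv_conj hB (transv hB p.1.1 p.2) p'.1.1 p'.2
    rw [transv_fix hB (horth _ p'.1.2 _ p.1.2), mul_inv_eq_iff_eq_mul] at h1
    show σ _ * σ _ = σ _ * σ _
    rw [← map_mul, ← map_mul, h1]
  obtain ⟨w, -, hw, φ, hφ⟩ := Cfsg.Agent.Lib.RepBounds.exists_common_eigenvector T hc ⊤
    top_ne_bot (fun _ _ _ => trivial)
  obtain ⟨ψ, hψ⟩ := (AddChar.exists_apply_ne_zero (a := (1 : F))).2 one_ne_zero
  have hprim : ψ.IsPrimitive := AddChar.IsPrimitive.of_ne_one fun h =>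
    hψ (by rw [h, AddChar.one_apply])
  have hchi : ∀ η : AddChar F ℂ, ∃ k, ∀ x, η x = ψ (k * x) := by
    intro η
    have hbij : Function.Bijective (AddChar.mulShift ψ) :=
      (Fintype.bijective_iff_injective_and_card _).2
        ⟨AddChar.to_mulShift_inj_of_isPrimitive hprim, (AddChar.card_eq).symm⟩
    obtain ⟨k, hk⟩ := hbij.2 η
    exact ⟨k, fun x => by rw [← hk, AddChar.mulShift_apply]⟩
  have hmem : a ∈ P ∧ b ∈ P ∧ d ∈ P :=
    ⟨Submodule.subset_span (by simp), Submodule.subset_span (by simp),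
      Submodule.subset_span (by simp)⟩
  -- eigenvalues of transvections
  have htv : ∀ v : P, ∃ k : F, ∀ c, σ (transv hB v.1 c) w = ψ (k * c) • w := by
    intro v
    obtain ⟨k, hk⟩ := hchi
      { toFun := fun c => φ (v, c)
        map_zero_eq_one' := smul_left_injective ℂ hw (by
          show φ (v, 0) • w = (1 : ℂ) • w
          rw [← hφ]
          simp [T])
        map_add_eq_mul' := fun c c' => smul_left_injective ℂ hw (by
          show φ (v, c + c') • w = (φ (v, c) * φ (v, c')) • w
          rw [← hφ, mul_comm, ← smul_smul, ← hφ, ← map_smul, ← hφ]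
          show σ _ w = σ _ (σ _ w)
          rw [← Module.End.mul_apply, ← map_mul, transv_mul, add_comm]) }
    exact ⟨k, fun c => (hφ (v, c)).trans (congrArg (· • w) (hk c))⟩
  choose Φ hΦ using htv
  have heich : ∀ v : P, ∃ k : F, ∀ s : F, σ (eich hB a (s • v.1)) w = ψ (k * s) • w := by
    intro v
    have hav : ∀ s : F, B a (s • v.1) = 0 := fun s => by
      rw [map_smul, horth a hmem.1 v.1 v.2, smul_zero]
    have h1 : ∀ s : F, σ (eich hB a (s • v.1)) w =
        (φ ((⟨a, hmem.1⟩ + s • v : P), 1) * φ ((⟨a, hmem.1⟩ : P), -1) * φ (s • v, -1)) • w := by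
      intro s
      show σ (transv hB _ 1 * transv hB _ (-1) * transv hB _ (-1)) w = _
      rw [map_mul, map_mul, Module.End.mul_apply, Module.End.mul_apply]
      change T (⟨a, hmem.1⟩ + s • v, 1) (T (⟨a, hmem.1⟩, -1) (T (s • v, -1) w)) = _
      rw [hφ, map_smul, hφ, map_smul, map_smul, hφ, smul_smul, smul_smul]
      congr 1
      ring
    set η : F → ℂ :=
      fun s => φ ((⟨a, hmem.1⟩ + s • v : P), 1) * φ ((⟨a, hmem.1⟩ : P), -1) * φ (s • v, -1)
    obtain ⟨k, hk⟩ := hchi
      { toFun := η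
        map_zero_eq_one' := smul_left_injective ℂ hw (by
          show η 0 • w = (1 : ℂ) • w
          rw [← h1, zero_smul, eich_zero, map_one, Module.End.one_apply, one_smul])
        map_add_eq_mul' := fun s t => smul_left_injective ℂ hw (by
          show η (s + t) • w = (η s * η t) • w
          rw [← h1, mul_comm, ← smul_smul, ← h1, ← map_smul, ← h1, ← Module.End.mul_apply,
            ← map_mul, eich_mul hB (hav s) (hav t)]
          simp [hB.self, add_smul, add_comm]) }
    exact ⟨k, fun s => (h1 s).trans (congrArg (· • w) (hk s))⟩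
  choose β hβ using heich
  -- a direction killed by the mixed part
  obtain ⟨r, hr, hrβ⟩ : ∃ r : P, (∀ t : F, r.1 ≠ t • a) ∧
      ∀ s : F, σ (eich hB a (s • r.1)) w = w := by
    by_cases h2 : β ⟨b, hmem.2.1⟩ = 0
    · refine ⟨⟨b, hmem.2.1⟩, hb, fun s => ?_⟩
      rw [hβ, h2, zero_mul, AddChar.map_zero_eq_one, one_smul]
    · set t := -(β ⟨d, hmem.2.2⟩ / β ⟨b, hmem.2.1⟩)
      refine ⟨⟨d, hmem.2.2⟩ + t • ⟨b, hmem.2.1⟩, fun l hl => hd l (-t) ?_, fun s => ?_⟩
      · change d + t • b = l • a at hl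
        rw [← hl]; module
      · have hbd' : B (t • s • b) (s • d) = 0 := by simp [hbd]
        have e1 : s • ((⟨d, hmem.2.2⟩ + t • ⟨b, hmem.2.1⟩ : P) : V) = s • d + t • s • b := by
          show s • (d + t • b) = _
          rw [smul_add, smul_comm]
        have e2 : eich hB a (s • d + t • s • b) = eich hB a (s • d) * eich hB a (t • s • b) := by
          rw [eich_mul hB (by simp [had]) (by simp [hab]), hbd', transv_zero, mul_one]
        rw [e1, e2, map_mul, Module.End.mul_apply, smul_smul, hβ ⟨b, hmem.2.1⟩ (t * s),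
          map_smul, hβ ⟨d, hmem.2.2⟩ s, smul_smul, ← AddChar.map_add_eq_mul]
        rw [show β ⟨b, hmem.2.1⟩ * (t * s) + β ⟨d, hmem.2.2⟩ * s = 0 by
          simp only [t]; field_simp; ring, AddChar.map_zero_eq_one, one_smul]
  -- the point on the line through `a` and `r`
  have hra : ∀ x : V, x ≠ 0 → (∀ c, σ (transv hB x c) w = w) → fixT hB σ x ≠ ⊥ := fun x _ h =>
    (Submodule.ne_bot_iff _).2 ⟨w, (mem_fixT hB σ).2 h, hw⟩
  by_cases hr0 : Φ r = 0
  · have : r.1 ≠ 0 := fun h => hr 0 (by rw [h, zero_smul])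
    exact ⟨r.1, this, hra _ this fun c => by
      rw [hΦ, hr0, zero_mul, AddChar.map_zero_eq_one, one_smul]⟩
  obtain ⟨l, hl⟩ : ∃ l : F, l ^ 2 = Φ ⟨a, hmem.1⟩ / Φ r :=
    Finite.surjective_of_injective (fun x y h => CharTwo.sq_injective h : Function.Injective
      (fun x : F => x ^ 2)) _
  have hx : a + l • r.1 ≠ 0 := by
    intro h
    rcases eq_or_ne l 0 with rfl | hl0
    · exact ha (by simpa using h)
    · refine hr (-l⁻¹) ?_
      have h' : l • r.1 = -a := eq_neg_of_add_eq_zero_right h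
      rw [neg_smul, ← smul_neg, ← h', smul_smul, inv_mul_cancel₀ hl0, one_smul]
  refine ⟨_, hx, hra _ hx fun c => ?_⟩
  rw [transv_add hB (by rw [map_smul, horth a hmem.1 r.1 r.2, smul_zero]), map_mul, map_mul,
    Module.End.mul_apply, Module.End.mul_apply, smul_smul, hrβ, transv_vec_smul, hΦ r, map_smul,
    show transv hB a c = transv hB (⟨a, hmem.1⟩ : P).1 c from rfl, hΦ, smul_smul,
    ← AddChar.map_add_eq_mul]
  rw [show Φ r * (l ^ 2 * c) + Φ ⟨a, hmem.1⟩ * c = 0 by
    rw [hl, ← mul_assoc, mul_div_cancel₀ _ hr0, CharTwo.add_self_eq_zero],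
    AddChar.map_zero_eq_one, one_smul]

theorem exists_orth_nontrivial (h6 : 6 ≤ finrank F V) (σ : Representation ℂ (Isom B) M) {e : V}
    (he0 : e ≠ 0) {c₀ : F} (hc₀ : σ (transv hB e c₀) ≠ 1) :
    ∃ (u : V) (c : F), (∀ t : F, u ≠ t • e) ∧ B e u = 0 ∧
      ∃ x ∈ fixT hB σ e, σ (transv hB u c) x ≠ x := by
  classical
  by_contra hcon
  push Not at hcon
  have hpair : ∀ a b : V, a ≠ 0 → (∀ t : F, b ≠ t • a) → B a b = 0 →
      fixT hB σ a ≤ fixT hB σ b := by
    intro a b ha hb hab x hx
    obtain ⟨g, hg⟩ := exists_smul_eq_of_ne_zero hB he0 ha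
    have h1 : σ g⁻¹ x ∈ fixT hB σ e :=
      map_fixT hB σ (by rw [← hg, inv_smul_smul]) hx
    have h2 : σ g⁻¹ x ∈ fixT hB σ (g⁻¹ • b) := by
      refine (mem_fixT hB σ).2 fun c => hcon _ c (fun t ht => hb t ?_) ?_ _ h1
      · have := congrArg (g • ·) ht
        simp only [smul_inv_smul] at this
        rw [this, smul_comm, hg]
      · rw [← isom_apply_smul g e (g⁻¹ • b), hg, smul_inv_smul, hab]
    have h3 := map_fixT hB σ (smul_inv_smul g b) h2
    rwa [← Module.End.mul_apply, ← map_mul, mul_inv_cancel, map_one, Module.End.one_apply] at h3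
  have hall : ∀ a b : V, a ≠ 0 → b ≠ 0 → fixT hB σ a ≤ fixT hB σ b := by
    intro a b ha hb
    by_cases hab : ∃ t : F, b = t • a
    · obtain ⟨t, rfl⟩ := hab
      exact le_of_eq (fixT_smul hB σ (fun h => hb (by rw [h, zero_smul])) a).symm
    push Not at hab
    by_cases h0 : B a b = 0
    · exact hpair a b ha hab h0
    · have hba : B a ((B a b)⁻¹ • b) = 1 := by rw [map_smul, smul_eq_mul, inv_mul_cancel₀ h0]
      have hf := finrank_pairPerp hB hba
      have : Nontrivial (pairPerp B a ((B a b)⁻¹ • b)) :=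
        Module.nontrivial_of_finrank_pos (R := F) (by omega)
      obtain ⟨⟨w, hw⟩, hw0⟩ := exists_ne (0 : pairPerp B a ((B a b)⁻¹ • b))
      obtain ⟨hwa, hwb⟩ := mem_pairPerp.1 hw
      rw [map_smul, LinearMap.smul_apply, smul_eq_mul] at hwb
      have hwb' : B b w = 0 := (mul_eq_zero.1 hwb).resolve_left (inv_ne_zero h0)
      have hw0' : w ≠ 0 := fun h => hw0 (Subtype.ext h)
      refine (hpair a w ha (fun t ht => ?_) hwa).trans
        (hpair w b hw0' (fun t ht => ?_) (hB.comm_eq_zero.1 hwb'))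
      · rcases eq_or_ne t 0 with rfl | ht0
        · exact hw0' (by rw [ht, zero_smul])
        · rw [ht, map_smul, smul_eq_mul, hB.swap b a] at hwb'
          exact h0 (by simpa [ht0] using hwb')
      · exact h0 (by rw [ht, map_smul, hwa, smul_zero])
  have : Finite (Isom B) := finite_isom
  let C : Subrepresentation σ := ⟨fixT hB σ e, fun g x hx =>
    hall (g • e) e (isom_smul_ne_zero g he0) he0 (map_fixT hB σ rfl hx)⟩
  obtain ⟨W, hW⟩ := Cfsg.Agent.Lib.PermTrans.Constituents.exists_compl σ C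
  by_cases hWb : W.toSubmodule = ⊥
  · apply hc₀
    apply LinearMap.ext
    intro x
    have : x ∈ C.toSubmodule := by
      have h := hW.sup_eq_top
      rw [hWb, sup_bot_eq] at h
      rw [h]; trivial
    exact (mem_fixT hB σ).1 this c₀
  · have : Nontrivial W.toSubmodule := Submodule.nontrivial_iff_ne_bot.2 hWb
    obtain ⟨v, hv0, hne⟩ := exists_fixed_vector hB h6 W.toRepresentation
    obtain ⟨x, hx, hx0⟩ := (Submodule.ne_bot_iff _).1 hne
    refine hx0 (Subtype.ext (Submodule.disjoint_def.1 hW.disjoint x.1 ?_ x.2))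
    exact hall v e hv0 he0 ((mem_fixT hB σ).2 fun c =>
      congrArg Subtype.val ((mem_fixT hB W.toRepresentation).1 hx c))

end Cfsg.Agent.Lib.SpDeg48
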