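import Cfsg.Agent.Lib.SpDeg48.Eichler
import Cfsg.Agent.Lib.RepBounds.Eigen

/-!
In characteristic two the eigenspace of a non-trivial character of a transvection group in a
representation of `Sp_{2m+2}(q)` has dimension at least `(q ^ (2 m) - q ^ m) / 2`: it carries an
orbit of `Sp_{2m}(q)` on the quadratic forms polarising to the symplectic form.
-/

set_option autoImplicit false
set_option linter.unusedSectionVars false

namespace Cfsg.Agent.Lib.SpDeg48

open Module Cfsg.Agent.Lib.Symplectic Cfsg.Agent.Lib.UniDeg48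

section Count

variable {F : Type*} [Field F] [Fintype F] [CharP F 2]
variable {W : Type*} [AddCommGroup W] [Module F W] [Fintype W]

/-- Counting the vectors on which a map of degree one takes a solvable value. -/
theorem count_solvable {m : ℕ} (hW : Fintype.card W = Fintype.card F ^ (2 * m)) (κ : W → F)
    (hκ : ∀ (l : F) (u : W), κ (l • u) = l * κ u) {s₀ : F} (hs₀ : s₀ ≠ 0) [DecidableEq F]
    (h0 : Fintype.card F ^ (2 * m) ≤ Fintype.card F * (Finset.univ.filter fun u => κ u = 0).card +
      (Fintype.card F - 1) * Fintype.card F ^ m) :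
    Fintype.card F ^ (2 * m) ≤
      2 * (Finset.univ.filter fun u => ∃ t : F, κ u * t ^ 2 + s₀ * t = 1).card +
        Fintype.card F ^ m := by
  classical
  set q := Fintype.card F with hq
  have hq1 : 1 < q := Fintype.one_lt_card
  set K := Finset.univ.filter fun k : F => k ≠ 0 ∧ ∃ t : F, k * t ^ 2 + s₀ * t = 1
  let L : F → Finset W := fun k => Finset.univ.filter fun u => κ u = k
  have hlev : ∀ k : F, k ≠ 0 → (L k).card = (L 1).card := by
    intro k hk
    refine Finset.card_bij' (fun u _ => k⁻¹ • u) (fun u _ => k • u) ?_ ?_ ?_ ?_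
    · intro u hu
      simp only [L, Finset.mem_filter, Finset.mem_univ, true_and] at hu ⊢
      rw [hκ, hu, inv_mul_cancel₀ hk]
    · intro u hu
      simp only [L, Finset.mem_filter, Finset.mem_univ, true_and] at hu ⊢
      rw [hκ, hu, mul_one]
    · intro u _
      rw [smul_smul, mul_inv_cancel₀ hk, one_smul]
    · intro u _
      rw [smul_smul, inv_mul_cancel₀ hk, one_smul]
  have htot : (L 0).card + (q - 1) * (L 1).card = q ^ (2 * m) := by
    rw [← hW, ← Finset.card_univ, Finset.card_eq_sum_card_fiberwise (f := κ) (s := (Finset.univ : Finset W)) (t := Finset.univ)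
      (fun x _ => Finset.mem_univ _), ← Finset.add_sum_erase _ _ (Finset.mem_univ (0 : F)),
      Finset.sum_congr rfl (fun k hk => hlev k (Finset.ne_of_mem_erase hk)), Finset.sum_const,
      Finset.card_erase_of_mem (Finset.mem_univ _), Finset.card_univ, smul_eq_mul]
  have hS : (L 0).card + K.card * (L 1).card ≤
      (Finset.univ.filter fun u => ∃ t : F, κ u * t ^ 2 + s₀ * t = 1).card := by
    have h0K : (0 : F) ∉ K := by simp [K]
    have : ∑ k ∈ insert 0 K, (L k).card = (L 0).card + K.card * (L 1).card := by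
      rw [Finset.sum_insert h0K, Finset.sum_congr rfl
        (fun k hk => hlev k (Finset.mem_filter.1 hk).2.1), Finset.sum_const, smul_eq_mul]
    rw [← this, ← Finset.card_biUnion (fun a _ b _ hab => Finset.disjoint_left.2 fun u ha hb =>
      hab ((Finset.mem_filter.1 ha).2.symm.trans (Finset.mem_filter.1 hb).2))]
    refine Finset.card_le_card fun u hu => ?_
    simp only [Finset.mem_biUnion, L, Finset.mem_filter, Finset.mem_univ, true_and] at hu ⊢
    obtain ⟨k, hk, rfl⟩ := hu
    rcases Finset.mem_insert.1 hk with h | h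
    · exact ⟨s₀⁻¹, by rw [h, zero_mul, zero_add, mul_inv_cancel₀ hs₀]⟩
    · exact (Finset.mem_filter.1 h).2.2
  have hK : q - 2 ≤ 2 * K.card := by
    let T : Finset F := (Finset.univ.erase 0).erase s₀⁻¹
    have hT : T.card = q - 2 := by
      rw [Finset.card_erase_of_mem (Finset.mem_erase.2 ⟨inv_ne_zero hs₀, Finset.mem_univ _⟩),
        Finset.card_erase_of_mem (Finset.mem_univ _), Finset.card_univ]
      omega
    rw [← hT]
    refine Finset.card_le_mul_card_image_of_maps_to (f := fun t => (1 + s₀ * t) / t ^ 2)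
      (fun t ht => ?_) 2 (fun k hk => ?_)
    · simp only [T, Finset.mem_erase, Finset.mem_univ, and_true] at ht
      refine Finset.mem_filter.2 ⟨Finset.mem_univ _, div_ne_zero (fun h => ht.1 ?_)
        (pow_ne_zero 2 ht.2), t, ?_⟩
      · refine eq_inv_of_mul_eq_one_right ?_
        linear_combination h - (CharTwo.two_eq_zero : (2 : F) = 0)
      · rw [div_mul_cancel₀ _ (pow_ne_zero 2 ht.2)]
        linear_combination (s₀ * t) * (CharTwo.two_eq_zero : (2 : F) = 0)
    · have hk0 : k ≠ 0 := (Finset.mem_filter.1 hk).2.1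
      by_cases hne : (T.filter fun t => (1 + s₀ * t) / t ^ 2 = k).Nonempty
      · obtain ⟨t, ht⟩ := hne
        refine (Finset.card_le_card (t := {t, t + s₀ / k}) fun t' ht' => ?_).trans
          Finset.card_le_two
        simp only [Finset.mem_filter, T, Finset.mem_erase, Finset.mem_univ, and_true] at ht ht'
        obtain ⟨⟨-, ht0⟩, ht⟩ := ht
        obtain ⟨⟨-, ht0'⟩, ht'⟩ := ht'
        rw [div_eq_iff (pow_ne_zero 2 ht0)] at ht
        rw [div_eq_iff (pow_ne_zero 2 ht0')] at ht'
        have h2 : (2 : F) = 0 := CharTwo.two_eq_zero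
        have h3 : (t' - t) * (k * (t' - t) - s₀) = 0 := by
          linear_combination ht - ht' + (k * (t * t - t * t')) * h2
        rw [Finset.mem_insert, Finset.mem_singleton]
        rcases mul_eq_zero.1 h3 with h | h
        · exact Or.inl (sub_eq_zero.1 h)
        · refine Or.inr ?_
          field_simp
          linear_combination h
      · rw [Finset.not_nonempty_iff_eq_empty.1 hne, Finset.card_empty]
        exact Nat.zero_le _
  -- arithmetic
  obtain ⟨r, hr⟩ : ∃ r, q = r + 2 := ⟨q - 2, by omega⟩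
  rw [hr] at htot h0 hK ⊢
  rw [show r + 2 - 1 = r + 1 by omega] at htot h0
  rw [Nat.add_sub_cancel] at hK
  generalize (L 1).card = M1 at htot hS
  generalize (Finset.univ.filter fun u => ∃ t : F, κ u * t ^ 2 + s₀ * t = 1).card = S at hS ⊢
  generalize K.card = c at hS hK
  have h1 : (r + 2) ^ (2 * m) ≤ (r + 2) * (L 0).card + (r + 1) * (r + 2) ^ m := by
    exact h0
  generalize (L 0).card = A' at htot hS h1
  generalize (r + 2) ^ (2 * m) = Q at htot h1 ⊢
  generalize (r + 2) ^ m = P at h1 ⊢
  refine Nat.le_of_mul_le_mul_left ?_ (show 0 < r + 1 by omega)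
  have h2 : r * M1 ≤ 2 * c * M1 := Nat.mul_le_mul_right M1 hK
  have h3 := Nat.mul_le_mul_left (r + 1) h2
  have h4 := Nat.mul_le_mul_left (2 * (r + 1)) hS
  nlinarith

end Count

variable {F : Type*} [Field F] [Fintype F] [CharP F 2]
variable {V : Type*} [AddCommGroup V] [Module F V] [FiniteDimensional F V]
variable {B : V →ₗ[F] V →ₗ[F] F} (hB : IsSympForm B)
variable {M : Type*} [AddCommGroup M] [Module ℂ M] [FiniteDimensional ℂ M]

theorem eig_bound (σ : Representation ℂ (Isom B) M) {e f : V} (hef : B e f = 1)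
    {χ : AddChar F ℂ} (hχ : χ ≠ 1) (hne : eigSub σ (tvHom hB e) χ ≠ ⊥) {m : ℕ}
    (hm : finrank F (pairPerp B e f) = 2 * m) :
    Fintype.card F ^ (2 * m) ≤ 2 * finrank ℂ (eigSub σ (tvHom hB e) χ) + Fintype.card F ^ m := by
  classical
  set E := eigSub σ (tvHom hB e) χ
  set W := pairPerp B e f
  have : Finite W := Module.finite_of_finite F
  have : Fintype W := Fintype.ofFinite W
  have hcardW : Fintype.card W = Fintype.card F ^ (2 * m) := by
    rw [← Nat.card_eq_fintype_card, Module.natCard_eq_pow_finrank (K := F),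
      Nat.card_eq_fintype_card, hm]
  have he : ∀ z : W, B e z.1 = 0 := fun z => (mem_pairPerp.1 z.2).1
  have hprim : χ.IsPrimitive := AddChar.IsPrimitive.of_ne_one hχ
  have hchi : ∀ η : AddChar F ℂ, ∃ a, ∀ x, η x = χ (a * x) := by
    intro η
    have hbij : Function.Bijective (AddChar.mulShift χ) :=
      (Fintype.bijective_iff_injective_and_card _).2
        ⟨AddChar.to_mulShift_inj_of_isPrimitive hprim, (AddChar.card_eq).symm⟩
    obtain ⟨a, ha⟩ := hbij.2 η
    exact ⟨a, fun x => by rw [← ha, AddChar.mulShift_apply]⟩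
  have hsq : ∀ x : F, χ x * χ x = 1 := fun x => by
    rw [← AddChar.map_add_eq_mul, CharTwo.add_self_eq_zero, AddChar.map_zero_eq_one]
  have hE : ∀ c, ∀ w ∈ E, σ (transv hB e c) w = χ c • w := fun c w hw =>
    (mem_eigSub σ _).1 hw c
  have hinv : ∀ z : W, ∀ w ∈ E, σ (eich hB e z.1) w ∈ E := fun z w hw =>
    map_eigSub σ (tvHom hB e) _ (fun c => eich_comm_transv hB (he z) c) hw
  have hsymW : ∀ z z' : W, B z.1 z'.1 = B z'.1 z.1 := fun z z' => by
    rw [hB.swap, CharTwo.neg_eq]
  have hcomm : ∀ z z' : W, Commute (σ (eich hB e z.1)) (σ (eich hB e z'.1)) := by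
    intro z z'
    show σ _ * σ _ = σ _ * σ _
    rw [← map_mul, ← map_mul, eich_mul hB (he z) (he z'), eich_mul hB (he z') (he z), add_comm,
      hsymW z z']
  obtain ⟨w₀, hw₀E, hw₀, f₀, hf₀⟩ := Cfsg.Agent.Lib.RepBounds.exists_common_eigenvector
    (fun z : W => σ (eich hB e z.1)) hcomm E hne hinv
  have hrel : ∀ z z' : W, f₀ z * f₀ z' = χ (B z'.1 z.1) * f₀ (z + z') := by
    intro z z'
    refine smul_left_injective ℂ hw₀ ?_
    show (f₀ z * f₀ z') • w₀ = (χ (B z'.1 z.1) * f₀ (z + z')) • w₀
    have h := congrArg (fun g => σ g w₀) (eich_mul hB (he z) (he z'))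
    simp only [map_mul, Module.End.mul_apply, hE _ w₀ hw₀E, map_smul, hf₀] at h
    rw [← Submodule.coe_add] at h
    rw [hf₀, smul_smul, smul_smul] at h
    rw [mul_comm (f₀ z)]
    exact h
  have hf1 : f₀ 0 = 1 := by
    refine smul_left_injective ℂ hw₀ ?_
    show f₀ 0 • w₀ = (1 : ℂ) • w₀
    rw [← hf₀, Submodule.coe_zero, eich_zero, map_one, Module.End.one_apply, one_smul]
  have hf2 : ∀ z, f₀ z * f₀ z = 1 := fun z => by
    have h2 : z + z = 0 := by
      rw [← two_smul F z, show (2 : F) = 0 from CharTwo.two_eq_zero, zero_smul]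
    rw [hrel, hB.self, AddChar.map_zero_eq_one, one_mul, h2, hf1]
  -- the line characters
  have hline : ∀ a : W, ∃ k : F, ∀ s, f₀ (s • a) = χ (k * s) := by
    intro a
    exact hchi
      { toFun := fun s => f₀ (s • a)
        map_zero_eq_one' := by rw [zero_smul, hf1]
        map_add_eq_mul' := fun s t => by
          rw [hrel, add_smul, Submodule.coe_smul, Submodule.coe_smul]
          simp [hB.self] }
  choose κ hκ using hline
  have hκs : ∀ (l : F) (u : W), κ (l • u) = l * κ u := by
    intro l u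
    apply AddChar.to_mulShift_inj_of_isPrimitive hprim
    ext s
    rw [AddChar.mulShift_apply, AddChar.mulShift_apply, ← hκ, smul_smul, hκ]
    ring_nf
  obtain ⟨s₀, hs₀⟩ := hchi
    { toFun := fun y => χ (y ^ 2)
      map_zero_eq_one' := by rw [zero_pow two_ne_zero, AddChar.map_zero_eq_one]
      map_add_eq_mul' := fun a b => by rw [CharTwo.add_sq, AddChar.map_add_eq_mul] }
  have hs₀' : ∀ y, χ (y ^ 2) = χ (s₀ * y) := hs₀
  have hs0 : s₀ ≠ 0 := by
    intro h0
    apply hχ
    ext x
    have hinj : Function.Injective (fun y : F => y ^ 2) := fun a b h => CharTwo.sq_injective h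
    obtain ⟨y, hy⟩ := Finite.surjective_of_injective hinj x
    have hy' : y ^ 2 = x := hy
    rw [← hy', hs₀', h0, zero_mul, AddChar.map_zero_eq_one, AddChar.one_apply]
  -- translates of the eigenfunction occur
  let J : W → (W → ℂ) := fun u z => f₀ z * χ (B u.1 z.1)
  set S := Finset.univ.filter fun u : W => ∃ t : F, κ u * t ^ 2 + s₀ * t = 1
  have hocc : ∀ u ∈ S, ∃ v : M, v ≠ 0 ∧ v ∈ E ∧ ∀ z : W, σ (eich hB e z.1) v = J u z • v := by
    intro u hu
    obtain ⟨t, ht⟩ := (Finset.mem_filter.1 hu).2
    set g := transv hB u.1 (t ^ 2)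
    have hge : g • e = e := transv_fix hB (he u) _
    refine ⟨σ g w₀, fun h => hw₀ ?_, ?_, fun z => ?_⟩
    · have := congrArg (σ g⁻¹) h
      rwa [← Module.End.mul_apply, ← map_mul, inv_mul_cancel, map_one, Module.End.one_apply,
        map_zero] at this
    · refine map_eigSub σ (tvHom hB e) g (fun c => ?_) hw₀E
      have h1 := transv_conj hB g e c
      rw [hge, mul_inv_eq_iff_eq_mul] at h1
      exact h1
    · set b := t ^ 2 * B z.1 u.1
      have hgz : g • z.1 = (z + b • u : W).1 := by
        rw [transv_smul, Submodule.coe_add, Submodule.coe_smul]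
      have hgg : g * g = 1 := by rw [transv_mul, CharTwo.add_self_eq_zero, transv_zero]
      have hgg' : g • (z + b • u : W).1 = z.1 := by rw [← hgz, smul_smul, hgg, one_smul]
      have h1 : eich hB e z.1 * g = g * eich hB e (z + b • u : W).1 := by
        have h := mul_inv_eq_iff_eq_mul.1 (eich_conj hB g e (z + b • u : W).1)
        rw [hge, hgg'] at h
        exact h.symm
      rw [← Module.End.mul_apply, ← map_mul, h1, map_mul, Module.End.mul_apply]
      change σ g ((fun z : W => σ (eich hB e z.1)) (z + b • u) w₀) = _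
      rw [hf₀, map_smul]
      congr 1
      show f₀ (z + b • u) = f₀ z * χ (B u.1 z.1)
      have h2 := hrel z (b • u)
      rw [hκ] at h2
      have h3 : f₀ (z + b • u) = f₀ z * χ (κ u * b) * χ (B (b • u : W).1 z.1) := by
        rw [h2, mul_right_comm, hsq, one_mul]
      rw [h3, mul_assoc, ← AddChar.map_add_eq_mul]
      congr 1
      rw [Submodule.coe_smul, map_smul, LinearMap.smul_apply, smul_eq_mul,
        show b = t ^ 2 * B u.1 z.1 by rw [hsymW],
        show t ^ 2 * B u.1 z.1 * B u.1 z.1 = (t * B u.1 z.1) ^ 2 by ring, AddChar.map_add_eq_mul,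
        hs₀', ← AddChar.map_add_eq_mul]
      congr 1
      linear_combination (B u.1 z.1) * ht
  have hJinj : Set.InjOn J S := by
    intro u _ u' _ h
    by_contra hne
    have h0 : u - u' ≠ 0 := sub_ne_zero.2 hne
    obtain ⟨z, hz⟩ : ∃ z : W, B (u - u').1 z.1 ≠ 0 := by
      by_contra hcon
      push Not at hcon
      exact h0 ((restr_pairPerp hB hef).nondeg (u - u') hcon)
    apply hχ
    ext x
    set z' : W := (x / B (u - u').1 z.1) • z
    have h1 : f₀ z' * χ (B u.1 z'.1) = f₀ z' * χ (B u'.1 z'.1) := congrFun h z'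
    have h2 := mul_left_cancel₀ (fun h0 : f₀ z' = 0 => by simpa [h0] using hf2 z') h1
    have h3 : B u.1 z'.1 = x + B u'.1 z'.1 := by
      have : B (u - u').1 z'.1 = x := by
        rw [Submodule.coe_smul, map_smul, smul_eq_mul, div_mul_cancel₀ _ hz]
      rw [← this, AddSubgroupClass.coe_sub, map_sub, LinearMap.sub_apply, sub_add_cancel]
    rw [h3, AddChar.map_add_eq_mul] at h2
    rw [AddChar.one_apply]
    exact (mul_left_eq_self₀.1 h2).resolve_right (AddChar.val_isUnit χ _).ne_zero
  have hcount : S.card ≤ finrank ℂ E := by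
    rw [← Finset.card_image_of_injOn hJinj]
    refine Cfsg.Agent.Lib.RepBounds.card_le_finrank_of_eigenchar
      (fun z : W => (σ (eich hB e z.1)).restrict (hinv z)) _ ?_
    intro η hη
    obtain ⟨u, hu, rfl⟩ := Finset.mem_image.1 hη
    obtain ⟨v, hv0, hvE, hv⟩ := hocc u hu
    exact ⟨⟨v, hvE⟩, fun h => hv0 (congrArg Subtype.val h), fun z => Subtype.ext (hv z)⟩
  refine (count_solvable hcardW κ hκs hs0 ?_).trans (Nat.add_le_add_right
    (Nat.mul_le_mul_left 2 hcount) _)
  -- the number of singular vectors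
  set q := Fintype.card F
  set Z := Finset.univ.filter fun u : W => κ u = 0
  set Sf := ∑ u : W, f₀ u
  have hsum : (q : ℂ) * Z.card = (q : ℂ) ^ (2 * m) + ((q : ℂ) - 1) * Sf := by
    have hdouble : ∑ u : W, ∑ s : F, f₀ (s • u) = (q : ℂ) * Z.card := by
      have h1 : ∀ u : W, ∑ s : F, f₀ (s • u) = if κ u = 0 then (q : ℂ) else 0 := by
        intro u
        simp only [hκ]
        by_cases h : κ u = 0
        · simp [h, q]
        · rw [if_neg h]
          exact AddChar.sum_eq_zero_of_ne_one (hprim h)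
      simp only [h1, ← Finset.sum_filter, Finset.sum_const, nsmul_eq_mul]
      ring
    rw [← hdouble, Finset.sum_comm, ← Finset.add_sum_erase _ _ (Finset.mem_univ (0 : F))]
    congr 1
    · simp [hf1, hcardW, q]
    · rw [Finset.sum_congr rfl (fun s hs => ?_), Finset.sum_const,
        Finset.card_erase_of_mem (Finset.mem_univ _), Finset.card_univ, nsmul_eq_mul,
        Nat.cast_sub (Fintype.card_pos (α := F)), Nat.cast_one]
      exact Fintype.sum_equiv
        (LinearEquiv.smulOfUnit (R := F) (M := W) (Units.mk0 s (Finset.ne_of_mem_erase hs))).toEquiv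
        _ _ (fun u => rfl)
  have hSf : Sf ^ 2 = ((q : ℂ) ^ m) ^ 2 := by
    have h1 : Sf * Sf = ∑ u : W, ∑ w : W, χ (B w.1 u.1) * f₀ w := by
      rw [Finset.sum_mul_sum]
      refine Finset.sum_congr rfl fun u _ => ?_
      refine Fintype.sum_equiv (Equiv.addLeft u) _ _ fun v => ?_
      show f₀ u * f₀ v = χ (B (u + v : W).1 u.1) * f₀ (u + v)
      rw [hrel, Submodule.coe_add, map_add, LinearMap.add_apply, hB.self, zero_add]
    rw [sq, h1, Finset.sum_comm, ← Finset.add_sum_erase _ _ (Finset.mem_univ (0 : W))]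
    rw [Finset.sum_eq_zero (s := Finset.univ.erase (0 : W)) (fun w hw => ?_), add_zero]
    · simp [hf1, hcardW, q]
      ring
    · rw [← Finset.sum_mul]
      have : ∑ u : W, χ (B w.1 u.1) = 0 := by
        let η : AddChar W ℂ := χ.compAddMonoidHom ((B w.1).comp W.subtype).toAddMonoidHom
        refine AddChar.sum_eq_zero_of_ne_one (ψ := η) fun hη => ?_
        obtain ⟨z, hz⟩ : ∃ z : W, B w.1 z.1 ≠ 0 := by
          by_contra hcon
          push Not at hcon
          exact Finset.ne_of_mem_erase hw ((restr_pairPerp hB hef).nondeg w hcon)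
        apply hχ
        ext x
        have := DFunLike.congr_fun hη ((x / B w.1 z.1) • z)
        rw [AddChar.one_apply] at this ⊢
        rw [← this]
        show χ x = χ (B w.1 ((x / B w.1 z.1) • z : W).1)
        rw [Submodule.coe_smul, map_smul, smul_eq_mul, div_mul_cancel₀ _ hz]
      rw [this, zero_mul]
  have hq1 : 1 ≤ q := Fintype.card_pos
  rcases sq_eq_sq_iff_eq_or_eq_neg.1 hSf with h | h <;> rw [h] at hsum
  · have : q * Z.card = q ^ (2 * m) + (q - 1) * q ^ m := by
      have : ((q * Z.card : ℕ) : ℂ) = ((q ^ (2 * m) + (q - 1) * q ^ m : ℕ) : ℂ) := by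
        push_cast [Nat.cast_sub hq1]; linear_combination hsum
      exact_mod_cast this
    omega
  · have : q * Z.card + (q - 1) * q ^ m = q ^ (2 * m) := by
      have : ((q * Z.card + (q - 1) * q ^ m : ℕ) : ℂ) = ((q ^ (2 * m) : ℕ) : ℂ) := by
        push_cast [Nat.cast_sub hq1]; linear_combination hsum
      exact_mod_cast this
    omega

end Cfsg.Agent.Lib.SpDeg48
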